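import Cfsg.Agent.CGT.Pres

/-! Column data of the presented group `Cfsg.Spor.HN`. -/

namespace CL.CGT.HN

noncomputable section

def cl : List (Cfsg.Spor.HN.Gen × Bool) := [(.x, true), (.x, false), (.y, true), (.y, false), (.z, true),
    (.t, true), (.t, false)]

def idx : Cfsg.Spor.HN.Gen → ℕ
  | .x => 0
  | .y => 2
  | .z => 4
  | .t => 5

def IV : ℕ := nat_lit 0x5060402030001

def prs : List (ℕ × ℕ × ℕ) := []

def ex : List WE := [.pow (.g 2) 6,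
  .mul (.mul (.mul (.pow (.g 0) 2) (.g 2)) (.pow (.g 0) 2)) (.inv (.g 2)),
  .pow (.mul (.mul (.mul (.inv (.g 0)) (.inv (.g 2))) (.g 0)) (.g 2)) 3,
  .pow (.mul (.mul (.mul (.inv (.g 0)) (.pow (.g 2) 2)) (.g 0)) (.pow (.g 2) 3)) 3,
  .pow (.mul (.g 0) (.g 2)) 8,
  .pow (.mul (.mul (.mul (.g 0) (.g 2)) (.g 0)) (.pow (.g 2) 3)) 4,
  .pow (.g 4) 2,
  .pow (.mul (.g 4) (.g 0)) 2,
  .mul (.mul (.mul (.mul (.inv (.g 4)) (.inv (.mul (.mul (.mul (.mul (.mul (.mul (.g 2) (.g 0)) (.g 2)) (.g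
    0)) (.pow (.g 2) 2)) (.g 0)) (.inv (.g 2))))) (.g 4)) (.mul (.mul (.mul (.mul (.mul (.mul (.g 2) (.g 0))
    (.g 2)) (.g 0)) (.pow (.g 2) 2)) (.g 0)) (.inv (.g 2)))) (.inv (.pow (.g 0) 2)),
  .mul (.g 4) (.pow (.mul (.mul (.mul (.inv (.mul (.mul (.mul (.mul (.pow (.g 2) 3) (.g 0)) (.g 2)) (.g 0))
    (.g 2))) (.g 4)) (.mul (.mul (.mul (.mul (.pow (.g 2) 3) (.g 0)) (.g 2)) (.g 0)) (.g 2))) (.g 0)) 3),
  .pow (.g 5) 5,
  .mul (.mul (.mul (.inv (.g 0)) (.g 5)) (.g 0)) (.pow (.g 5) 2),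
  .mul (.mul (.mul (.inv (.g 5)) (.inv (.g 2))) (.g 5)) (.g 2),
  .pow (.mul (.g 4) (.g 5)) 3]

abbrev iv0 : ℕ → ℕ := ivT IV 7

abbrev base : List (List ℕ) := baseRels iv0 prs ex

theorem cox : CoxData Cfsg.Spor.HN.edges Cfsg.Spor.HN.extra cl idx IV prs ex :=
  ⟨fun x => by cases x <;> rfl, by decide +kernel, by decide +kernel, by decide +kernel, by decide +kernel,
    rfl⟩

/-- the columns. -/
abbrev γ : ℕ → Cfsg.Spor.HN := coxγ Cfsg.Spor.HN.edges Cfsg.Spor.HN.extra cl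

theorem hiv : ∀ c, γ (iv0 c) = (γ c)⁻¹ := cox.ivG

theorem hb : ∀ r ∈ base, wval γ r = 1 := cox.base_rels

theorem genLt_top : genLt γ 7 = ⊤ := cox.genLt_eq_top

end

end CL.CGT.HN
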